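import Groth.Agent.Cohder.RDLES
import Groth.Agent.Cohder.KZEuler
import Groth.Agent.Etcore.DerLES

/-!
# The Euler characteristic of right derived functors on `K₀`

`F : C ⥤ D` additive, `P`, `Q` classes of objects of `C`, `D`, with `Q` closed under zero objects, kernels, cokernels
and extensions; if `R^n F` maps `P` to `Q` and vanishes on `P` for `n > N`, then
`X ↦ ∑_{n ≤ N} (-1)^n [R^n F X]` is additive on short exact sequences of objects of `P`.
-/

set_option autoImplicit false

universe v u v' u'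

open CategoryTheory CategoryTheory.Limits

namespace Groth.Agent.Krr.H485.EulerRD

open Groth.Agent.Cohder.KZBasic Groth.Agent.Cohder.KZEuler Groth.Agent.Cohder.RDLES

section Alg

/-- Telescoping alternating sums. -/
lemma sum_telescope {G : Type*} [AddCommGroup G] (l : ℕ → G) (N : ℕ) :
    ∑ n ∈ Finset.range (N + 1), (-1 : ℤ) ^ n • ((if n = 0 then 0 else l (n - 1)) + l n) =
      (-1 : ℤ) ^ N • l N := by
  induction N with
  | zero => simp
  | succ N ih =>
    rw [Finset.sum_range_succ, ih]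
    simp only [Nat.add_eq_zero_iff, one_ne_zero, and_false, if_false, Nat.add_sub_cancel, smul_add,
      pow_succ, mul_neg, mul_one, neg_smul]
    abel

lemma sum_euler {G : Type*} [AddCommGroup G] (a b c l : ℕ → G) (N : ℕ) (hl : l N = 0)
    (h0 : a 0 + c 0 = b 0 + l 0)
    (h : ∀ n, a (n + 1) + c (n + 1) = b (n + 1) + (l n + l (n + 1))) :
    ∑ n ∈ Finset.range (N + 1), (-1 : ℤ) ^ n • b n =
      ∑ n ∈ Finset.range (N + 1), (-1 : ℤ) ^ n • a n +
        ∑ n ∈ Finset.range (N + 1), (-1 : ℤ) ^ n • c n := by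
  have key : ∀ n, a n + c n = b n + ((if n = 0 then 0 else l (n - 1)) + l n) := by
    intro n
    cases n with
    | zero => simpa using h0
    | succ n => simpa using h n
  rw [← Finset.sum_add_distrib]
  have e : ∀ n : ℕ, (-1 : ℤ) ^ n • a n + (-1 : ℤ) ^ n • c n =
      (-1 : ℤ) ^ n • b n + (-1 : ℤ) ^ n • ((if n = 0 then 0 else l (n - 1)) + l n) := by
    intro n
    rw [← smul_add, key n, smul_add]
  rw [Finset.sum_congr rfl (fun n _ => e n), Finset.sum_add_distrib, sum_telescope, hl, smul_zero,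
    add_zero]

end Alg

variable {C : Type u} [Category.{v} C] [Abelian C] [HasInjectiveResolutions C]
  {D : Type u'} [Category.{v'} D] [Abelian D] (F : C ⥤ D) [F.Additive]

/-- The alternating sum of the classes of the right derived functors. -/
noncomputable def chi (Q : ObjectProperty D) (N : ℕ) (X : C) : KZero.K0sub Q :=
  ∑ n ∈ Finset.range (N + 1), (-1 : ℤ) ^ n • KZero.clSub Q ((F.rightDerived n).obj X)

variable {P : ObjectProperty C} {Q : ObjectProperty D}

lemma isZero_image_of_target {X Y : D} (f : X ⟶ Y) (hY : IsZero Y) : IsZero (Abelian.image f) := by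
  rw [IsZero.iff_id_eq_zero, ← cancel_mono (Abelian.image.ι f)]
  exact hY.eq_of_tgt _ _

lemma clSub_image_mono {X Y : D} (hQ : KClosed Q) (f : X ⟶ Y) [Mono f] (hX : Q X) (hY : Q Y) :
    KZero.clSub Q (Abelian.image f) = KZero.clSub Q X := by
  have : IsIso (Abelian.factorThruImage f) := inferInstance
  exact (clSub_iso Q hQ.zero (asIso (Abelian.factorThruImage f)) hX (hQ.image f hX hY)).symm

/-- Additivity of the Euler characteristic. -/
theorem chi_additive (hQ : KClosed Q) (N : ℕ) {S : ShortComplex C} (hS : S.ShortExact)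
    (h₁ : ∀ n, Q ((F.rightDerived n).obj S.X₁)) (h₂ : ∀ n, Q ((F.rightDerived n).obj S.X₂))
    (h₃ : ∀ n, Q ((F.rightDerived n).obj S.X₃))
    (hN : IsZero ((F.rightDerived (N + 1)).obj S.X₁)) :
    chi F Q N S.X₂ = chi F Q N S.X₁ + chi F Q N S.X₃ := by
  obtain ⟨hmono, hex₂, δ, hδ⟩ := exists_les F hS
  let l : ℕ → KZero.K0sub Q := fun n => KZero.clSub Q (Abelian.image (δ n))
  have w : ∀ n, (F.rightDerived n).map S.f ≫ (F.rightDerived n).map S.g = 0 := by
    intro n
    have := enoughInjectives (C := C)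
    have : (F.rightDerived n).Additive := Groth.Agent.Etcore.DerLES.rightDerived_additive F n
    rw [← Functor.map_comp, S.zero, Functor.map_zero]
  have e₂ : ∀ n, KZero.clSub Q ((F.rightDerived n).obj S.X₂) =
      KZero.clSub Q (Abelian.image ((F.rightDerived n).map S.f)) +
        KZero.clSub Q (Abelian.image ((F.rightDerived n).map S.g)) := fun n =>
    clSub_exact hQ _ (hex₂ n (w n)) (h₁ n) (h₂ n) (h₃ n)
  have e₃ : ∀ n, KZero.clSub Q ((F.rightDerived n).obj S.X₃) =
      KZero.clSub Q (Abelian.image ((F.rightDerived n).map S.g)) + l n := fun n => by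
    obtain ⟨w₁, w₂, hw₁, hw₂⟩ := hδ n
    exact clSub_exact hQ _ hw₁ (h₂ n) (h₃ n) (h₁ (n + 1))
  have e₁ : ∀ n, KZero.clSub Q ((F.rightDerived (n + 1)).obj S.X₁) =
      l n + KZero.clSub Q (Abelian.image ((F.rightDerived (n + 1)).map S.f)) := fun n => by
    obtain ⟨w₁, w₂, hw₁, hw₂⟩ := hδ n
    exact clSub_exact hQ _ hw₂ (h₃ n) (h₁ (n + 1)) (h₂ (n + 1))
  have e₀ : KZero.clSub Q ((F.rightDerived 0).obj S.X₁) =
      KZero.clSub Q (Abelian.image ((F.rightDerived 0).map S.f)) :=
    (clSub_image_mono hQ _ (h₁ 0) (h₂ 0)).symm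
  have hl : l N = 0 := clSub_zero Q (isZero_image_of_target _ hN)
  refine sum_euler (fun n => KZero.clSub Q ((F.rightDerived n).obj S.X₁))
    (fun n => KZero.clSub Q ((F.rightDerived n).obj S.X₂))
    (fun n => KZero.clSub Q ((F.rightDerived n).obj S.X₃)) l N hl ?_ ?_
  · change KZero.clSub Q ((F.rightDerived 0).obj S.X₁) + KZero.clSub Q ((F.rightDerived 0).obj S.X₃) =
      KZero.clSub Q ((F.rightDerived 0).obj S.X₂) + l 0
    rw [e₀, e₃, e₂]
    abel
  · intro n
    change KZero.clSub Q ((F.rightDerived (n + 1)).obj S.X₁) +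
      KZero.clSub Q ((F.rightDerived (n + 1)).obj S.X₃) =
      KZero.clSub Q ((F.rightDerived (n + 1)).obj S.X₂) + (l n + l (n + 1))
    rw [e₁, e₃, e₂]
    abel

variable (P Q)

/-- The push-forward on `K₀` defined by the Euler characteristic of the right derived functors. -/
noncomputable def eulerHom (hQ : KClosed Q) (N : ℕ)
    (hP : ∀ X, P X → ∀ n, Q ((F.rightDerived n).obj X))
    (hN : ∀ X, P X → ∀ n, N < n → IsZero ((F.rightDerived n).obj X)) :
    KZero.K0sub P →+ KZero.K0sub Q :=
  liftSub P (fun X => chi F Q N X.1) (fun S h₁ h₂ h₃ hS =>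
    chi_additive F hQ N hS (hP _ h₁) (hP _ h₂) (hP _ h₃) (hN _ h₁ _ (Nat.lt_succ_self N)))

theorem eulerHom_clSub (hQ : KClosed Q) (N : ℕ)
    (hP : ∀ X, P X → ∀ n, Q ((F.rightDerived n).obj X))
    (hN : ∀ X, P X → ∀ n, N < n → IsZero ((F.rightDerived n).obj X)) {X : C} (hX : P X) :
    eulerHom F P Q hQ N hP hN (KZero.clSub P X) =
      ∑ n ∈ Finset.range (N + 1), (-1 : ℤ) ^ n • KZero.clSub Q ((F.rightDerived n).obj X) :=
  liftSub_cl P (fun X => chi F Q N X.1) _ hX

/-- The sum does not depend on the bound. -/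
theorem chi_eq_of_le {N M : ℕ} (hNM : N ≤ M) {X : C}
    (h : ∀ n, N < n → IsZero ((F.rightDerived n).obj X)) : chi F Q M X = chi F Q N X := by
  unfold chi
  symm
  refine Finset.sum_subset (Finset.range_mono (by omega)) ?_
  intro n _ hn
  rw [Finset.mem_range, not_lt] at hn
  rw [clSub_zero Q (h n (by omega)), smul_zero]

theorem chi_eq_of_isZero {N M : ℕ} {X : C}
    (hN : ∀ n, N < n → IsZero ((F.rightDerived n).obj X))
    (hM : ∀ n, M < n → IsZero ((F.rightDerived n).obj X)) : chi F Q M X = chi F Q N X := by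
  rcases le_total N M with h | h
  · exact chi_eq_of_le F Q h hN
  · exact (chi_eq_of_le F Q h hM).symm

end Groth.Agent.Krr.H485.EulerRD
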