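import Groth.Agent.Ega3B.RpushAbCmp
import Groth.Agent.Ega3B.RpushCmp
import Groth.Agent.Sga67.ClosedPush
import Groth.Agent.S0485

/-!
# `R^q (i ≫ p)_* = R^q p_* i_*` for a closed immersion `i`
-/

set_option autoImplicit false

universe u

open CategoryTheory CategoryTheory.Limits AlgebraicGeometry

namespace Groth.Agent.Krr.H485.LerayCl

open Groth.Agent.Ega3B.RpushAbCmp Groth.Agent.Etcore

variable {X P Y : Scheme.{u}}

/-- `X.Modules` has injective resolutions. -/
theorem hasInjectiveResolutions (X : Scheme.{u}) : HasInjectiveResolutions X.Modules := by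
  have : EnoughInjectives X.Modules := S0485.result _ X.ringCatSheaf
  infer_instance

/-- `i_* I` is acyclic for `p_*` if `I` is injective. -/
theorem acyc_push (i : X ⟶ P) (p : P ⟶ Y) [EnoughInjectives P.Modules] (I : X.Modules)
    [Injective I] :
    DerLES.Acyc (Scheme.Modules.pushforward p) ((Scheme.Modules.pushforward i).obj I) := by
  intro q
  have h1 := Groth.Agent.Ega3B.InjMod.isFlasque_of_injective I
  have h2 := Groth.Agent.Ega3B.RpushCmp.isFlasque_push i I
  have h3 : IsZero ((Coh.RpushAb p (q + 1)).obj (Coh.toAb ((Scheme.Modules.pushforward i).obj I))) :=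
    @CohtopA.PushExact.isZero_Rpush_of_isFlasque P.toTopCat Y.toTopCat p.base
      (Coh.toAb ((Scheme.Modules.pushforward i).obj I)) (h2 h1) q
  exact (isZero_RpushAb_iff p _ (q + 1)).1 h3

/-- `R^q (i ≫ p)_* F = R^q p_* (i_* F)` for a closed immersion `i`. -/
theorem nonempty_iso (i : X ⟶ P) [IsClosedImmersion i] (p : P ⟶ Y)
    [HasInjectiveResolutions X.Modules] [HasInjectiveResolutions P.Modules] (F : X.Modules) (q : ℕ) :
    Nonempty ((Coh.Rpush (i ≫ p) q).obj F ≅
      (Coh.Rpush p q).obj ((Scheme.Modules.pushforward i).obj F)) := by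
  have := enoughInjectives_of_hasInjectiveResolutions (C := X.Modules)
  have := enoughInjectives_of_hasInjectiveResolutions (C := P.Modules)
  have := Groth.Agent.Sga67.ClosedPush.preservesFiniteColimits_pushforward i
  exact nonempty_iso_of_acyc (Scheme.Modules.pushforward (i ≫ p)) (Scheme.Modules.pushforward p)
    (Scheme.Modules.pushforward i) (𝟭 _)
    (Functor.rightUnitor _ ≪≫ (Scheme.Modules.pushforwardComp i p).symm)
    (fun I _ => acyc_push i p I) q F

end Groth.Agent.Krr.H485.LerayCl
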