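import Groth.Prelude.Def_KRR
import Groth.Agent.Krr.H485.EulerRD
import Groth.Agent.Krr.H485.LerayCl
import Groth.Agent.PerfA.QCohExt
import Groth.Agent.S0036

/-!
# The push-forward on `K₀` of coherent modules along a proper morphism

* `kclosed_coh` : coherent modules on a locally Noetherian scheme are closed under zero objects, kernels,
  cokernels and extensions.
* `pushCoh f N hN` : `[F] ↦ ∑_{q ≤ N} (-1)^q [R^q f_* F]`, and `isPushCoh_pushCoh`.
* `clSub_sum_eq` : for a closed immersion `i` the Euler characteristics for `i ≫ p` and for `p` agree.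
-/

set_option autoImplicit false

universe u

open CategoryTheory CategoryTheory.Limits AlgebraicGeometry

namespace Groth.Agent.Krr.H485.PushCoh

open Groth.Agent.Cohder.KZBasic Groth.Agent.Cohder.KZEuler

/-- Coherent modules as an object property. -/
abbrev cohP (X : Scheme.{u}) : ObjectProperty X.Modules := fun M => Coh.IsCoh M

theorem kclosed_coh (X : Scheme.{u}) [IsLocallyNoetherian X] : KClosed (cohP X) where
  zero _ hZ := PerfA.CohSerre.isCoh_of_isZero hZ
  ker f hX hY := PerfA.CohSerre.isCoh_kernel f hX hY.1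
  coker f hX hY := PerfA.CohSerre.isCoh_cokernel f hX.1 hY
  ext _ hS h₁ h₃ := PerfA.QCohExt.isCoh_ext hS h₁ h₃

variable {X Y : Scheme.{u}}

/-- The class of a coherent module only depends on its isomorphism class. -/
theorem clSub_coh_iso [IsLocallyNoetherian X] {M N : X.Modules} (e : M ≅ N) :
    KZero.clSub (cohP X) M = KZero.clSub (cohP X) N := by
  by_cases h : Coh.IsCoh M
  · exact clSub_iso (cohP X) (kclosed_coh X).zero e h (PerfA.CohSerre.isCoh_of_iso e h)
  · have h' : ¬ Coh.IsCoh N := fun h' => h (PerfA.CohSerre.isCoh_of_iso e.symm h')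
    rw [KZero.clSub, KZero.clSub, dif_neg h, dif_neg h']

variable (f : X ⟶ Y) [IsProper f] [IsLocallyNoetherian Y] [HasInjectiveResolutions X.Modules]

/-- The push-forward on `K₀` of coherent modules: `[F] ↦ ∑_{q ≤ N} (-1)^q [R^q f_* F]`. -/
noncomputable def pushCoh (N : ℕ)
    (hN : ∀ F : X.Modules, Coh.IsCoh F → ∀ q : ℕ, N < q → IsZero ((Coh.Rpush f q).obj F)) :
    SGA6.Kcoh X →+ SGA6.Kcoh Y :=
  EulerRD.eulerHom (Scheme.Modules.pushforward f) (cohP X) (cohP Y) (kclosed_coh Y) N
    (fun F hF q => S0036.result f F hF q) hN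

theorem pushCoh_clSub (N : ℕ)
    (hN : ∀ F : X.Modules, Coh.IsCoh F → ∀ q : ℕ, N < q → IsZero ((Coh.Rpush f q).obj F))
    {F : X.Modules} (hF : Coh.IsCoh F) :
    pushCoh f N hN (KZero.clSub (cohP X) F) =
      ∑ q ∈ Finset.range (N + 1), (-1 : ℤ) ^ q • KZero.clSub (cohP Y) ((Coh.Rpush f q).obj F) :=
  EulerRD.eulerHom_clSub _ _ _ _ _ _ _ hF

/-- Existence of the push-forward on `K₀` of coherent modules. -/
theorem isPushCoh_pushCoh (N : ℕ)
    (hN : ∀ F : X.Modules, Coh.IsCoh F → ∀ q : ℕ, N < q → IsZero ((Coh.Rpush f q).obj F)) :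
    KRR.IsPushCoh f N (pushCoh f N hN) :=
  ⟨hN, fun _ hF => pushCoh_clSub f N hN hF⟩

/-- If the higher direct images of `F` vanish the push-forward of `[F]` is `[f_* F]`. -/
theorem pushCoh_clSub_of_acyclic (N : ℕ)
    (hN : ∀ F : X.Modules, Coh.IsCoh F → ∀ q : ℕ, N < q → IsZero ((Coh.Rpush f q).obj F))
    {F : X.Modules} (hF : Coh.IsCoh F) (h : ∀ q : ℕ, 1 ≤ q → IsZero ((Coh.Rpush f q).obj F)) :
    pushCoh f N hN (KZero.clSub (cohP X) F) =
      KZero.clSub (cohP Y) ((Scheme.Modules.pushforward f).obj F) := by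
  rw [pushCoh_clSub f N hN hF]
  refine (EulerRD.chi_eq_of_le (Scheme.Modules.pushforward f) (cohP Y) (Nat.zero_le N)
    (X := F) (fun q hq => h q hq)).trans ?_
  unfold EulerRD.chi
  rw [zero_add, Finset.sum_range_one, pow_zero, one_smul]
  exact clSub_coh_iso ((Scheme.Modules.pushforward f).rightDerivedZeroIsoSelf.app F)

end Groth.Agent.Krr.H485.PushCoh

namespace Groth.Agent.Krr.H485.PushCoh

open Groth.Agent.Cohder.KZBasic Groth.Agent.Cohder.KZEuler

variable {X P Y : Scheme.{u}}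

/-- For a closed immersion `i : X ⟶ P` and `p : P ⟶ Y`, the push-forward of `[F]` along `i ≫ p` is that of `[i_* F]`
along `p`. -/
theorem push_comp_closed (i : X ⟶ P) [IsClosedImmersion i] (p : P ⟶ Y) [IsLocallyNoetherian Y]
    [HasInjectiveResolutions X.Modules] [HasInjectiveResolutions P.Modules] (N M : ℕ) (F : X.Modules)
    (hN : ∀ q : ℕ, N < q → IsZero ((Coh.Rpush (i ≫ p) q).obj F))
    (hM : ∀ q : ℕ, M < q →
      IsZero ((Coh.Rpush p q).obj ((Scheme.Modules.pushforward i).obj F))) :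
    ∑ q ∈ Finset.range (N + 1), (-1 : ℤ) ^ q • KZero.clSub (cohP Y) ((Coh.Rpush (i ≫ p) q).obj F) =
      ∑ q ∈ Finset.range (M + 1), (-1 : ℤ) ^ q • KZero.clSub (cohP Y)
        ((Coh.Rpush p q).obj ((Scheme.Modules.pushforward i).obj F)) := by
  have h1 := EulerRD.chi_eq_of_isZero (Scheme.Modules.pushforward p) (cohP Y)
    (N := M) (M := N) (X := (Scheme.Modules.pushforward i).obj F) hM (fun q hq => by
      obtain ⟨e⟩ := LerayCl.nonempty_iso i p F q
      exact (hN q hq).of_iso e.symm)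
  refine Eq.trans ?_ h1
  unfold EulerRD.chi
  refine Finset.sum_congr rfl fun q _ => ?_
  obtain ⟨e⟩ := LerayCl.nonempty_iso i p F q
  exact congrArg _ (clSub_coh_iso e)

end Groth.Agent.Krr.H485.PushCoh
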