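import Groth.Prelude.Def_KRR
import Groth.Agent.Sga67.PullVan
import Groth.Agent.Sga67.TwistOver
import Groth.Agent.Sga67.PushTwist
import Groth.Agent.CohqA.HDIZero
import Groth.Agent.CohqA.HOpen
import Groth.Agent.PerfA.QCohSerre
import Groth.Agent.PerfA.QCohEpi
import Groth.Agent.Ega3B.RpushAbCmp
import Groth.Agent.Ega3B.ProjProper
import Groth.Agent.S0022

/-!
# Direct images of `O(m) ⊗ p^* E` along `p : P^n_S ⟶ S`

* `isZero_RpushAb_of_chart` : `R^q p_* M = 0` if `H^q` vanishes on all charts `P^n_A` of affine opens.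
* `isZero_RpushAb_tw_pull` : `R^q p_* (O(m) ⊗ p^* E) = 0` for `q ≥ 1`, `m ≥ -n`.
* `isZero_RpushAb_of_lt`, `isZero_Rpush_of_lt` : `R^q p_* M = 0` for `M` quasi-coherent and `q > n`.
* `isRegSheaf_twF_pull` : `O(m) ⊗ p^* E` is regular for `m ≥ 0`.
-/

set_option autoImplicit false

universe u

open CategoryTheory CategoryTheory.Limits AlgebraicGeometry TopologicalSpace Opposite

namespace Groth.Agent.Krr.H485.RegTw

open Groth.Agent.Sga67.TwistOver Groth.Agent.Ega3A

variable {n : ℕ} {S : Scheme.{u}}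

/-- The preimage of an affine open is the range of the corresponding chart. -/
theorem preimage_eq_image_chart {V : S.Opens} (hV : IsAffineOpen V) :
    CohB1.ProjSpaceOver.toBase n S ⁻¹ᵁ V = PChart.chart n hV.fromSpec ''ᵁ ⊤ := by
  apply SetLike.coe_injective
  have hp := PChart.isPullback_chart n hV.fromSpec
  have hr : Set.range hV.fromSpec = (V : Set S) := hV.range_fromSpec
  ext x
  constructor
  · intro hx
    have hx' : CohB1.ProjSpaceOver.toBase n S x ∈ Set.range hV.fromSpec := by rw [hr]; exact hx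
    obtain ⟨z, hz⟩ := hx'
    obtain ⟨y, hy1, hy2⟩ := Scheme.exists_preimage_of_isPullback hp x z hz.symm
    exact ⟨y, trivial, hy1⟩
  · rintro ⟨y, -, rfl⟩
    have h1 := congrArg (fun g => g.base y) hp.w
    change CohB1.ProjSpaceOver.toBase n S (PChart.chart n hV.fromSpec y) ∈ (V : Set S)
    rw [← hr]
    exact ⟨_, h1.symm⟩

/-- Vanishing of `R^q p_* M` from the charts. -/
theorem isZero_RpushAb_of_chart (M : (CohB1.ProjSpaceOver n S).Modules) (q : ℕ)
    (h : ∀ (V : S.Opens) (hV : IsAffineOpen V),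
      Subsingleton (Coh.HH (CohB1.ProjSpace n Γ(S, V)) (M.restrict (PChart.chart n hV.fromSpec)) q)) :
    IsZero ((Coh.RpushAb (CohB1.ProjSpaceOver.toBase n S) q).obj (Coh.toAb M)) := by
  refine CohqA.HDIZero.isZero_RpushAb _ _ q {V | IsAffineOpen V} S.isBasis_affineOpens fun V hV => ?_
  have := h V hV
  exact (CohqA.HOpen.HHEquiv (PChart.chart n (IsAffineOpen.fromSpec hV)) M _
    (preimage_eq_image_chart hV) q).toEquiv.subsingleton

theorem isZero_RpushAb_tw_pull {E : S.Modules} (hE : FlatMod.IsFinLocFree E) (m : ℤ)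
    (hm : -(n : ℤ) ≤ m) (q : ℕ) (hq : 1 ≤ q) :
    IsZero ((Coh.RpushAb (CohB1.ProjSpaceOver.toBase n S) q).obj (Coh.toAb ((tw n S m).obj
      ((Scheme.Modules.pullback (CohB1.ProjSpaceOver.toBase n S)).obj E)))) :=
  isZero_RpushAb_of_chart _ q fun _ hV =>
    Sga67.PullVan.subsingleton_HH_pullback n hV.fromSpec E hE m q (Or.inl ⟨hq, hm⟩)

theorem isZero_RpushAb_of_lt (M : (CohB1.ProjSpaceOver n S).Modules) (hM : Coh.IsQCoh M) (q : ℕ)
    (hq : n < q) :
    IsZero ((Coh.RpushAb (CohB1.ProjSpaceOver.toBase n S) q).obj (Coh.toAb M)) :=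
  isZero_RpushAb_of_chart _ q fun V hV => by
    have : Coh.IsQCoh (M.restrict (PChart.chart n hV.fromSpec)) := PerfA.QCohSerre.isQCoh_restrict _ hM
    exact S0022.result n Γ(S, V) _ q hq

theorem isZero_Rpush_of_lt [HasInjectiveResolutions (CohB1.ProjSpaceOver n S).Modules]
    (M : (CohB1.ProjSpaceOver n S).Modules) (hM : Coh.IsQCoh M) (q : ℕ) (hq : n < q) :
    IsZero ((Coh.Rpush (CohB1.ProjSpaceOver.toBase n S) q).obj M) :=
  (Ega3B.RpushAbCmp.isZero_RpushAb_iff _ M q).1 (isZero_RpushAb_of_lt M hM q hq)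

theorem isZero_Rpush_tw_pull [HasInjectiveResolutions (CohB1.ProjSpaceOver n S).Modules]
    {E : S.Modules} (hE : FlatMod.IsFinLocFree E) (m : ℤ) (hm : -(n : ℤ) ≤ m) (q : ℕ) (hq : 1 ≤ q) :
    IsZero ((Coh.Rpush (CohB1.ProjSpaceOver.toBase n S) q).obj ((tw n S m).obj
      ((Scheme.Modules.pullback (CohB1.ProjSpaceOver.toBase n S)).obj E))) :=
  (Ega3B.RpushAbCmp.isZero_RpushAb_iff _ _ q).1 (isZero_RpushAb_tw_pull hE m hm q hq)

theorem isZero_RpushAb_of_iso {X Y : Scheme.{u}} (f : X ⟶ Y) {M N : X.Modules} (e : M ≅ N) (q : ℕ)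
    (h : IsZero ((Coh.RpushAb f q).obj (Coh.toAb M))) :
    IsZero ((Coh.RpushAb f q).obj (Coh.toAb N)) :=
  h.of_iso ((Coh.RpushAb f q).mapIso ((SheafOfModules.toSheaf X.ringCatSheaf).mapIso e.symm))

/-- `O(m) ⊗ p^* E` is a finite locally free module. -/
theorem isFinLocFree_twF_pull {E : S.Modules} (hE : FlatMod.IsFinLocFree E) (m : ℤ) :
    FlatMod.IsFinLocFree (KRR.twF n S m
      ((Scheme.Modules.pullback (CohB1.ProjSpaceOver.toBase n S)).obj E)) :=
  isFinLocFree_tw n S m _ (PerfB.FlatPull.isFinLocFree_pullback _ hE)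

/-- `O(m) ⊗ p^* E` is regular for `m ≥ 0`. -/
theorem isRegSheaf_twF_pull {E : S.Modules} (hE : FlatMod.IsFinLocFree E) (m : ℤ) (hm : 0 ≤ m) :
    KRR.IsRegSheaf n S (KRR.twF n S m
      ((Scheme.Modules.pullback (CohB1.ProjSpaceOver.toBase n S)).obj E)) := by
  intro i hi
  obtain ⟨e⟩ := nonempty_tw_tw n S (-(i : ℤ)) m
    ((Scheme.Modules.pullback (CohB1.ProjSpaceOver.toBase n S)).obj E)
  refine isZero_RpushAb_of_iso _ e.symm i ?_
  rcases le_or_gt i n with h | h
  · exact isZero_RpushAb_tw_pull hE _ (by omega) i hi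
  · exact isZero_RpushAb_of_lt _ (PerfA.QCohEpi.isQCoh_of_isFinLocFree
      (isFinLocFree_twF_pull hE (-(i : ℤ) + m))) i h

end Groth.Agent.Krr.H485.RegTw
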