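import Groth.Prelude.Def_KRR
import Groth.Agent.S3197
import Groth.Agent.Krr.H485.RegTw
import Groth.Agent.Sga67.K0Map
import Groth.Agent.Sga67.FlatPre
import Groth.Agent.Sga5.ProjSmooth

/-!
# `K₀` of vector bundles on `P^n_S` is generated by the regular bundles `O(i) ⊗ p^* E`, `0 ≤ i ≤ n`
-/

set_option autoImplicit false

universe w u

open CategoryTheory CategoryTheory.Limits AlgebraicGeometry
attribute [local instance] HasDerivedCategory.standard

namespace Groth.Agent.Krr.H485.RegGen

open Groth.Agent.Sga67.TwistOver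

theorem flat_toBase (n : ℕ) (S : Scheme.{u}) : Flat (CohB1.ProjSpaceOver.toBase n S) := by
  have h1 : Flat (CohB1.ProjSpace.toSpec n (ULift.{u} ℤ)) := by
    have := Sga5.ProjSmooth.smooth_toSpec n (ULift.{u} ℤ)
    have : Smooth (CohB1.ProjSpace.toSpec n (ULift.{u} ℤ)) := SmoothOfRelativeDimension.smooth n _
    infer_instance
  exact MorphismProperty.of_isPullback (P := @Flat)
    (IsPullback.of_hasPullback (CohB1.ProjSpace.toSpec n (ULift.{u} ℤ))
      (specULiftZIsTerminal.from S)) h1

variable {n : ℕ} {S : Scheme.{u}}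

/-- Every class on `P^n_S` is a sum of images of classes on `S`. -/
theorem exists_eq_sum [CompactSpace S] (y : SGA6.Kvb (KRR.PY n S)) :
    ∃ (_ : (Scheme.Modules.pullback (CohB1.ProjSpaceOver.toBase n S)).Additive)
      (_ : PreservesFiniteLimits (Scheme.Modules.pullback (CohB1.ProjSpaceOver.toBase n S)))
      (_ : PreservesFiniteColimits (Scheme.Modules.pullback (CohB1.ProjSpaceOver.toBase n S)))
      (_ : ∀ i : ℕ, PreservesFiniteLimits
        ((DCoh.tensorBi (X := CohB1.ProjSpaceOver n S)).obj (Twist.twistOver n S (i : ℤ))))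
      (_ : ∀ i : ℕ, PreservesFiniteColimits
        ((DCoh.tensorBi (X := CohB1.ProjSpaceOver n S)).obj (Twist.twistOver n S (i : ℤ))))
      (x : Fin (n + 1) → SGA6.Kvb S),
      y = ∑ i : Fin (n + 1), (SGA6.mapSub ((DCoh.tensorBi (X := CohB1.ProjSpaceOver n S)).obj
        (Twist.twistOver n S ((i : ℕ) : ℤ)))
        (fun M : (CohB1.ProjSpaceOver n S).Modules => FlatMod.IsFinLocFree M)
        (fun M : (CohB1.ProjSpaceOver n S).Modules => FlatMod.IsFinLocFree M)
        (fun M hM => isFinLocFree_tw n S (i : ℕ) M hM))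
        ((SGA6.mapSub (Scheme.Modules.pullback (CohB1.ProjSpaceOver.toBase n S))
          (fun M : (S).Modules => FlatMod.IsFinLocFree M)
          (fun M : (CohB1.ProjSpaceOver n S).Modules => FlatMod.IsFinLocFree M)
          (fun _ hE => PerfB.FlatPull.isFinLocFree_pullback _ hE)) (x i)) := by
  have hfl := flat_toBase n S
  have i1 : (Scheme.Modules.pullback (CohB1.ProjSpaceOver.toBase n S)).Additive := inferInstance
  have i2 := Sga67.FlatPre.preservesFiniteLimits_pullback (CohB1.ProjSpaceOver.toBase n S)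
  have i3 : PreservesFiniteColimits (Scheme.Modules.pullback (CohB1.ProjSpaceOver.toBase n S)) :=
    inferInstance
  have i4 : ∀ i : ℕ, PreservesFiniteLimits
    ((DCoh.tensorBi (X := CohB1.ProjSpaceOver n S)).obj (Twist.twistOver n S (i : ℤ))) :=
    fun i => preservesFiniteLimits_tw n S i
  have i5 : ∀ i : ℕ, PreservesFiniteColimits
    ((DCoh.tensorBi (X := CohB1.ProjSpaceOver n S)).obj (Twist.twistOver n S (i : ℤ))) :=
    fun i => preservesFiniteColimits_tw n S i
  obtain ⟨x, hx⟩ := (S3197.result S n (fun _ hE => PerfB.FlatPull.isFinLocFree_pullback _ hE)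
    (fun i M hM => isFinLocFree_tw n S (i : ℕ) M hM)).2 y
  exact ⟨i1, i2, i3, i4, i5, x, hx.symm⟩

/-- Two additive maps out of `K₀(Vect P^n_S)` which agree on the classes of `O(i) ⊗ p^* E`, `0 ≤ i ≤ n`, are
equal. -/
theorem hom_ext [CompactSpace S] {G : Type w} [AddCommGroup G] {a b : SGA6.Kvb (KRR.PY n S) →+ G}
    (h : ∀ E : S.Modules, FlatMod.IsFinLocFree E → ∀ i : ℕ, i ≤ n →
      a (KRR.cl (KRR.PY n S) (KRR.twF n S (i : ℤ) ((Scheme.Modules.pullback (KRR.pr n S)).obj E))) =
      b (KRR.cl (KRR.PY n S)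
        (KRR.twF n S (i : ℤ) ((Scheme.Modules.pullback (KRR.pr n S)).obj E)))) : a = b := by
  refine AddMonoidHom.ext fun y => ?_
  obtain ⟨i1, i2, i3, i4, i5, x, rfl⟩ := exists_eq_sum y
  rw [map_sum, map_sum]
  refine Finset.sum_congr rfl fun i _ => ?_
  have key : (a.comp (SGA6.mapSub ((DCoh.tensorBi (X := CohB1.ProjSpaceOver n S)).obj
        (Twist.twistOver n S ((i : ℕ) : ℤ)))
        (fun M : (CohB1.ProjSpaceOver n S).Modules => FlatMod.IsFinLocFree M)
        (fun M : (CohB1.ProjSpaceOver n S).Modules => FlatMod.IsFinLocFree M)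
        (fun M hM => isFinLocFree_tw n S (i : ℕ) M hM))).comp
        ((SGA6.mapSub (Scheme.Modules.pullback (CohB1.ProjSpaceOver.toBase n S))
          (fun M : (S).Modules => FlatMod.IsFinLocFree M)
          (fun M : (CohB1.ProjSpaceOver n S).Modules => FlatMod.IsFinLocFree M)
          (fun _ hE => PerfB.FlatPull.isFinLocFree_pullback _ hE))) =
      (b.comp (SGA6.mapSub ((DCoh.tensorBi (X := CohB1.ProjSpaceOver n S)).obj
        (Twist.twistOver n S ((i : ℕ) : ℤ)))
        (fun M : (CohB1.ProjSpaceOver n S).Modules => FlatMod.IsFinLocFree M)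
        (fun M : (CohB1.ProjSpaceOver n S).Modules => FlatMod.IsFinLocFree M)
        (fun M hM => isFinLocFree_tw n S (i : ℕ) M hM))).comp
        ((SGA6.mapSub (Scheme.Modules.pullback (CohB1.ProjSpaceOver.toBase n S))
          (fun M : (S).Modules => FlatMod.IsFinLocFree M)
          (fun M : (CohB1.ProjSpaceOver n S).Modules => FlatMod.IsFinLocFree M)
          (fun _ hE => PerfB.FlatPull.isFinLocFree_pullback _ hE))) := by
    refine Sga67.K0Basic.hom_ext_sub fun E hE => ?_
    simp only [AddMonoidHom.comp_apply]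
    rw [Sga67.K0Map.mapSub_clSub _ _ _ _ hE, Sga67.K0Map.mapSub_clSub _ _ _ _
      (PerfB.FlatPull.isFinLocFree_pullback _ hE)]
    exact h E hE i (by have := i.2; omega)
  exact congrArg (fun f => f (x i)) key

end Groth.Agent.Krr.H485.RegGen
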